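import Cfsg.Agent.Lib.Golay.SylowTwo

/-!
Checks on the element list of a Sylow 2-subgroup of `M24` modulo its centre: the centres of the
maximal subgroups and the abelian subgroups of order 64 of the quotient.
-/

set_option autoImplicit false
set_option maxRecDepth 30000

namespace Cfsg.Agent.M24Sylow

open Cfsg.Agent.Golay.Basic Cfsg.Agent.Golay.M24 Cfsg.Agent.Golay.Cert Cfsg.Agent.Golay.TabList
  Cfsg.Agent.Golay.SylowTwoData

/-- The two tables commute modulo the centre. -/
def ctest (x g : ℕ) : Bool :=
  mulTab x g == mulTab g x || mulTab x g == mulTab (mulTab g x) s24Z

/-- The list of values of the character with mask `f` on the first `2 ^ k` elements. -/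
def signs (f : ℕ) : ℕ → List Bool
  | 0 => [false]
  | k + 1 => signs f k ++ (signs f k).map (xor (f.testBit k))

/-- The element with a given number. -/
def el (i : ℕ) : ℕ := s24Elems.getD i idTab

/-- `(y, r)`: element `r` is the square of element `y`. -/
def sqPairs : List (ℕ × ℕ) := [(17, 13), (65, 3), (96, 27), (320, 192), (513, 259)]

/-- Pairs of elements with small common centraliser in a maximal subgroup. -/
def genPairs : List (ℕ × ℕ) :=
  [(35, 64), (65, 512), (97, 512), (513, 2), (65, 32), (97, 1), (65, 33), (96, 513), (65, 544),
    (97, 513), (577, 32), (96, 1)]

/-- The check for one character. -/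
def maskOK (f : ℕ) : Bool :=
  let s := signs f 10
  f == 0 || s.getD 11 false || sqPairs.any (fun e => s.getD e.2 false) ||
    genPairs.any fun e => !s.getD e.1 false && !s.getD e.2 false &&
      decide (((s24Elems.zip s).filter fun t =>
        !t.2 && ctest t.1 (el e.1) && ctest t.1 (el e.2)).length ≤ 16)

def masksOK : Bool :=
  el 11 == s24Z && sqPairs.all (fun e => mulTab (el e.1) (el e.1) == el e.2) &&
    (List.range 1024).all maskOK

/-- The special element. -/
def gE : ℕ := el 544

/-- Its centraliser modulo the centre. -/
def eList : List ℕ := s24Elems.filter fun x => ctest x gE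

def eOK : Bool :=
  eList.length == 128 && eList.all fun x => mulTab x x == idTab || mulTab x x == s24Z

/-- Representatives of the non-trivial cosets, with inverses. -/
def reps : List (ℕ × ℕ) := [(1, 1), (2, 2), (3, 3), (64, 64), (65, 66), (66, 65), (67, 67)]

def coverOK : Bool :=
  (reps.all fun r => mulTab (el r.2) (el r.1) == idTab) &&
    s24Elems.all fun x => ctest x gE || reps.any fun r => ctest (mulTab (el r.2) x) gE

/-- The elements of the centraliser commuting with a set of representatives. -/
def jList (s : ℕ) : List ℕ :=
  eList.filter fun x => (List.range 7).all fun i => !s.testBit i || ctest x (el (reps.getD i (0, 0)).1)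

def subsetsOK : Bool :=
  (List.range 128).all fun s => s == 0 ||
    decide ((((List.range 7).filter fun i => s.testBit i).length + 1) * (jList s).length < 128)

theorem masks_check : masksOK = true := by decide +kernel

theorem e_check : eOK = true := by decide +kernel

theorem cover_check : coverOK = true := by decide +kernel

theorem subsets_check : subsetsOK = true := by decide +kernel

theorem center_check : (s24Pc.all fun g => mulTab g s24Z == mulTab s24Z g) = true := by decide +kernel

theorem z_check : (s24Z != idTab) = true := by decide +kernel

end Cfsg.Agent.M24Sylow
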