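import Cfsg.Agent.Lib.M24Sylow.Checks
import Cfsg.Agent.Lib.Golay.SylowCheck24

/-!
The Sylow 2-subgroup of `M24` modulo its centre: the maximal subgroups have centres of order at
most 8 and there is exactly one abelian subgroup of order 64, which is elementary abelian.
-/

set_option autoImplicit false
set_option maxRecDepth 30000

namespace Cfsg.Agent.M24Sylow

open Cfsg Cfsg.Agent.Golay.Basic Cfsg.Agent.Golay.M24 Cfsg.Agent.Golay.Cert Cfsg.Agent.Golay.TabList
  Cfsg.Agent.Golay.SylowTwoData Cfsg.Agent.Golay.SylowTwo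

attribute [local irreducible] mulTab pack tabPerm tabOK

local notation "pG" => Equiv.Perm GolayPt

/-- The Sylow subgroup given by the list. -/
abbrev P0 : Type := tabGroup s24Pc

theorem mem_P0 {g : pG} : g ∈ tabGroup s24Pc ↔ ∃ t ∈ s24Elems, g = tabPerm t :=
  (spec s24_list).2.1 g

theorem isTab_elem {t : ℕ} (ht : t ∈ s24Elems) : IsTab t (tabPerm t) ∧ canon t = true :=
  (spec s24_list).1 t ht

theorem nodup_elems : s24Elems.Nodup := (spec s24_list).2.2.of_map _

theorem length_elems : s24Elems.length = 1024 := by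
  have h := s24_list
  simp only [listOK, Bool.and_eq_true, beq_iff_eq] at h
  rw [h.1.2]
  rfl

/-- The table of an element. -/
noncomputable def tb (x : P0) : ℕ := Classical.choose (mem_P0.1 x.2)

theorem tb_mem (x : P0) : tb x ∈ s24Elems := (Classical.choose_spec (mem_P0.1 x.2)).1

theorem tb_perm (x : P0) : tabPerm (tb x) = (x : pG) := (Classical.choose_spec (mem_P0.1 x.2)).2.symm

theorem tb_isTab (x : P0) : IsTab (tb x) (x : pG) := tb_perm x ▸ (isTab_elem (tb_mem x)).1

theorem tb_unique {x : P0} {t : ℕ} (hc : canon t = true) (ht : IsTab t (x : pG)) : tb x = t :=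
  eq_of_isTab (isTab_elem (tb_mem x)).2 hc (tb_isTab x) ht

theorem tb_mul (x y : P0) : tb (x * y) = mulTab (tb x) (tb y) :=
  tb_unique (canon_mulTab _ _) (isTab_mul (tb_isTab x) (tb_isTab y))

theorem tb_one : tb 1 = idTab := tb_unique canon_idTab isTab_one

theorem tb_inj : Function.Injective tb := fun x y h =>
  Subtype.ext (by rw [← tb_perm x, ← tb_perm y, h])

theorem tb_surj {t : ℕ} (ht : t ∈ s24Elems) : ∃ x : P0, tb x = t := by
  have hmem : tabPerm t ∈ tabGroup s24Pc := mem_P0.2 ⟨t, ht, rfl⟩
  exact ⟨⟨_, hmem⟩, tb_unique (isTab_elem ht).2 (isTab_elem ht).1⟩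

theorem el_mem {i : ℕ} (hi : i < 1024) : el i ∈ s24Elems := by
  rw [el, List.getD_eq_getElem _ _ (length_elems.symm ▸ hi)]
  exact List.getElem_mem _

theorem el_eleven : el 11 = s24Z := by
  have h := masks_check
  simp only [masksOK, Bool.and_eq_true, beq_iff_eq] at h
  exact h.1.1

theorem exists_z : ∃ z : P0, tb z = s24Z := tb_surj (el_eleven ▸ el_mem (by norm_num))

/-- The central involution. -/
noncomputable def zc : P0 := Classical.choose exists_z

theorem tb_zc : tb zc = s24Z := Classical.choose_spec exists_z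

theorem pc_mem {g : ℕ} (hg : g ∈ s24Pc) : ∃ y : P0, tb y = g := by
  have hmem : tabPerm g ∈ tabGroup s24Pc := Subgroup.subset_closure ⟨g, hg, rfl⟩
  have h := s24_list
  simp only [listOK, Bool.and_eq_true, List.all_eq_true] at h
  exact ⟨⟨_, hmem⟩, tb_unique (h.1.1.1.2 g hg) (isTab_tabPerm (h.1.1.1.1 g hg))⟩

theorem mem_center_iff {x : P0} : x ∈ Subgroup.center P0 ↔ x = 1 ∨ x = zc := by
  constructor
  · intro hx
    have h := s24_center
    simp only [centerOK, List.all_eq_true, Bool.or_eq_true, beq_iff_eq, List.any_eq_true,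
      Bool.not_eq_eq_eq_not, Bool.not_true] at h
    rcases h _ (tb_mem x) with (h | h) | ⟨g, hg, hne⟩
    · exact Or.inl (tb_inj (h.trans tb_one.symm))
    · exact Or.inr (tb_inj (h.trans tb_zc.symm))
    · obtain ⟨y, rfl⟩ := pc_mem hg
      rw [← tb_mul, ← tb_mul, beq_eq_false_iff_ne] at hne
      exact absurd (congrArg tb (Subgroup.mem_center_iff.1 hx y)) hne
  · rintro (rfl | rfl)
    · exact Subgroup.one_mem _
    rw [Subgroup.mem_center_iff]
    intro y
    have hy : (y : pG) ∈ tabGroup s24Pc := y.2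
    have hle : tabGroup s24Pc ≤ Subgroup.centralizer ({(zc : pG)} : Set pG) := tabGroup_le_of fun g hg => by
      obtain ⟨u, hu⟩ := pc_mem hg
      have h := center_check
      simp only [List.all_eq_true, beq_iff_eq] at h
      have e := h g hg
      rw [← hu, ← tb_zc, ← tb_mul, ← tb_mul] at e
      have e2 : (u : pG) * zc = zc * u := congrArg Subtype.val (tb_inj e)
      rw [show tabPerm g = (u : pG) by rw [← hu, tb_perm]]
      exact Subgroup.mem_centralizer_singleton_iff.2 e2
    exact Subtype.ext (Subgroup.mem_centralizer_singleton_iff.1 (hle hy))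

theorem card_center : Nat.card (Subgroup.center P0) = 2 := by
  have hne : (1 : P0) ≠ zc := fun h => by
    have := z_check
    rw [← tb_zc, ← h, tb_one] at this
    simp at this
  rw [Nat.card_congr (Equiv.subtypeEquivRight (q := fun x => x ∈ ({1, zc} : Set P0))
    fun x => by rw [mem_center_iff]; simp)]
  exact Set.ncard_pair hne

/-- The quotient by the centre. -/
abbrev Q : Type := P0 ⧸ Subgroup.center P0

/-- The quotient map. -/
noncomputable abbrev q : P0 →* Q := QuotientGroup.mk' (Subgroup.center P0)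

theorem q_eq_iff {a b : P0} : q a = q b ↔ b = a ∨ b = a * zc := by
  show (QuotientGroup.mk a : Q) = QuotientGroup.mk b ↔ _
  rw [QuotientGroup.eq, mem_center_iff, inv_mul_eq_one, inv_mul_eq_iff_eq_mul, eq_comm]

theorem ctest_iff (x g : P0) : ctest (tb x) (tb g) = true ↔ Commute (q x) (q g) := by
  rw [ctest, ← tb_mul, ← tb_mul, ← tb_zc, ← tb_mul, Bool.or_eq_true, beq_iff_eq, beq_iff_eq,
    tb_inj.eq_iff, tb_inj.eq_iff, commute_iff_eq, ← map_mul, ← map_mul, eq_comm (a := q (x * g)),
    q_eq_iff]

theorem card_P0 : Nat.card P0 = 1024 := (card_tabGroup s24_list).trans (by decide)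

theorem card_Q : Nat.card Q = 512 := by
  have h := Subgroup.card_eq_card_quotient_mul_card_subgroup (Subgroup.center P0)
  rw [card_P0, card_center] at h
  show Nat.card (P0 ⧸ Subgroup.center P0) = 512
  omega

theorem card_comap (H : Subgroup Q) : Nat.card (H.comap q) = 2 * Nat.card H := by
  have h1 := (H.comap q).card_mul_index
  have h2 := H.card_mul_index
  rw [card_P0, Subgroup.index_comap_of_surjective _ (QuotientGroup.mk'_surjective _)] at h1
  rw [card_Q] at h2
  have hpos : 0 < H.index := Nat.pos_of_ne_zero fun h => by rw [h] at h2; simp at h2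
  refine Nat.eq_of_mul_eq_mul_right hpos ?_
  rw [h1, mul_assoc, h2]
  norm_num

theorem card_le_list {H : Subgroup P0} {l : List ℕ} (h : ∀ x ∈ H, tb x ∈ l) :
    Nat.card H ≤ l.length := by
  classical
  calc Nat.card H ≤ Nat.card l.toFinset :=
        Nat.card_le_card_of_injective (fun x : H => (⟨tb x, List.mem_toFinset.2 (h x x.2)⟩ : l.toFinset))
          fun x y hxy => Subtype.ext (tb_inj (congrArg Subtype.val hxy))
    _ = l.toFinset.card := Nat.card_eq_finsetCard _
    _ ≤ l.length := l.toFinset_card_le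

/-! ### Maximal subgroups -/

theorem exists_bits : ∀ (n : ℕ) (b : ℕ → Bool), ∃ f < 2 ^ n, ∀ k < n, f.testBit k = b k
  | 0, _ => ⟨0, by norm_num, fun k hk => absurd hk (Nat.not_lt_zero k)⟩
  | n + 1, b => by
    obtain ⟨f, hf, hb⟩ := exists_bits n fun k => b (k + 1)
    refine ⟨2 * f + (b 0).toNat, ?_, ?_⟩
    · have := (b 0).toNat_le
      rw [pow_succ]; omega
    · intro k hk
      have hdiv : (2 * f + (b 0).toNat) / 2 = f := by
        have := (b 0).toNat_le
        omega
      cases k with
      | zero =>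
        rw [Nat.testBit_zero]
        cases b 0 <;> simp
      | succ k => rw [Nat.testBit_succ, hdiv, hb k (by omega)]

open Classical in
theorem exists_mask (N : Subgroup P0) (hN : N.index = 2) :
    ∃ f < 1024, signs f 10 =
      s24Elems.map fun t => decide (∀ x : P0, tb x = t → x ∉ N) := by
  obtain ⟨f, hf, hbits⟩ := exists_bits 10
    fun k => decide (∀ x : P0, tb x = s24Pc.getD k idTab → x ∉ N)
  refine ⟨f, hf, ?_⟩
  have hlist := s24_list
  simp only [listOK, Bool.and_eq_true, List.all_eq_true, List.mem_range, beq_iff_eq] at hlist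
  obtain ⟨⟨⟨_, hhead⟩, hlen⟩, hstep⟩ := hlist
  have hpc : s24Pc.length = 10 := by decide
  suffices ∀ k ≤ 10, signs f k =
      (s24Elems.take (2 ^ k)).map fun t => decide (∀ x : P0, tb x = t → x ∉ N) by
    rw [this 10 le_rfl, List.take_of_length_le (by rw [length_elems]; norm_num)]
  intro k
  induction k with
  | zero =>
    intro _
    obtain ⟨a, L', hL⟩ : ∃ a L', s24Elems = a :: L' :=
      List.exists_cons_of_ne_nil fun h => by rw [h] at hhead; simp at hhead
    rw [hL, List.head?_cons, Option.some.injEq] at hhead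
    subst hhead
    rw [hL]
    have : ¬ (∀ x : P0, tb x = idTab → x ∉ N) := fun h => h 1 tb_one N.one_mem
    rw [show List.take (2 ^ 0) (idTab :: L') = [idTab] from rfl]
    simp only [List.map_cons, List.map_nil, signs, decide_eq_false this]
  | succ k ih =>
    intro hk
    have hs := hstep k (by omega)
    simp only [stepOK, Bool.and_eq_true, beq_iff_eq] at hs
    have hblock := hs.1.1.1
    set gt := s24Pc.getD k idTab with hgt
    rw [signs, ih (by omega), pow_succ, mul_two, List.take_add, hblock, List.map_append,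
      List.map_map, List.map_map]
    congr 1
    refine List.map_congr_left fun t ht => ?_
    have hgm : gt ∈ s24Pc := by
      rw [hgt, List.getD_eq_getElem _ _ (by omega)]; exact List.getElem_mem _
    obtain ⟨u, hu⟩ := pc_mem hgm
    obtain ⟨x, hx⟩ := tb_surj (List.mem_of_mem_take ht)
    have key : ∀ (y : P0) (s : ℕ), tb y = s → ((∀ v : P0, tb v = s → v ∉ N) ↔ y ∉ N) :=
      fun y s hy => ⟨fun h => h y hy, fun h v hv => (tb_inj (hv.trans hy.symm)) ▸ h⟩
    simp only [Function.comp_apply, hbits k (by omega), ← hgt]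
    have e1 := key u gt hu
    have e2 := key x t hx
    have e3 := key (u * x) (mulTab gt t) (by rw [tb_mul, hu, hx])
    have := Subgroup.mul_mem_iff_of_index_two hN (a := u) (b := x)
    simp only [e1, e2, e3]
    by_cases h1 : u ∈ N <;> by_cases h2 : x ∈ N <;> simp [h1, h2, this]

theorem isPGroup_P0 : IsPGroup 2 P0 := IsPGroup.of_card (n := 10) (card_P0.trans (by norm_num))

theorem index_of_coatom {M : Subgroup Q} (hM : IsCoatom M) : M.index = 2 := by
  haveI : Fact (Nat.Prime 2) := ⟨Nat.prime_two⟩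
  obtain ⟨j, hj⟩ := ((isPGroup_P0.to_quotient (Subgroup.center P0)).to_subgroup M).exists_card_eq
  have h2 := M.card_mul_index
  rw [card_Q, hj] at h2
  have hj9 : j < 9 := by
    by_contra h
    have h9 : 2 ^ 9 ≤ 2 ^ j := Nat.pow_le_pow_right (by norm_num) (by omega)
    have hi : 2 ≤ M.index := by
      rcases Nat.lt_or_ge M.index 2 with h' | h'
      · interval_cases hM' : M.index
        · simp at h2
        · exact absurd (Subgroup.index_eq_one.1 hM') hM.1
      · exact h'
    have := Nat.mul_le_mul h9 hi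
    omega
  have hdvd : 2 ^ (j + 1) ∣ Nat.card Q := by
    rw [card_Q, show (512 : ℕ) = 2 ^ 9 by norm_num]; exact pow_dvd_pow 2 (by omega)
  obtain ⟨K, hK, hle⟩ := Sylow.exists_subgroup_card_pow_succ hdvd hj
  have hne : M ≠ K := fun h => by
    rw [← h, hj] at hK
    exact absurd (Nat.pow_right_injective le_rfl hK) (by omega)
  have hKtop : K = ⊤ := hM.2 K (lt_of_le_of_ne hle hne)
  rw [hKtop, Subgroup.card_top, card_Q] at hK
  rw [pow_succ] at hK
  have hpos : 0 < 2 ^ j := by positivity
  refine Nat.eq_of_mul_eq_mul_left hpos ?_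
  rw [h2]
  omega

theorem sign_getD {N : Subgroup P0} {f i : ℕ} (hi : i < 1024) {y : P0} (hy : tb y = el i)
    [∀ t, Decidable (∀ x : P0, tb x = t → x ∉ N)]
    (hsig : signs f 10 = s24Elems.map fun t => decide (∀ x : P0, tb x = t → x ∉ N)) :
    (signs f 10).getD i false = true ↔ y ∉ N := by
  rw [hsig, List.getD_eq_getElem _ _ (by rw [List.length_map, length_elems]; exact hi),
    List.getElem_map, decide_eq_true_eq]
  have he : s24Elems[i]'(length_elems.symm ▸ hi) = tb y := by
    rw [hy, el, List.getD_eq_getElem _ _ (length_elems.symm ▸ hi)]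
  rw [he]
  exact ⟨fun h => h y rfl, fun h x hx => tb_inj hx ▸ h⟩

theorem card_center_maximal {M : Subgroup Q} (hM : IsCoatom M) :
    Nat.card (Subgroup.center M) ≤ 8 := by
  classical
  set N := M.comap q with hN
  have hidx : N.index = 2 := by
    rw [hN, Subgroup.index_comap_of_surjective _ (QuotientGroup.mk'_surjective _), index_of_coatom hM]
  obtain ⟨f, hf, hsig⟩ := exists_mask N hidx
  have h := masks_check
  simp only [masksOK, Bool.and_eq_true, List.all_eq_true, List.mem_range, beq_iff_eq] at h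
  obtain ⟨⟨-, hsq⟩, hmask⟩ := h
  have hf' := hmask f hf
  simp only [maskOK, Bool.or_eq_true, beq_iff_eq, List.any_eq_true, Bool.and_eq_true,
    decide_eq_true_eq, Bool.not_eq_eq_eq_not, Bool.not_true] at hf'
  rcases hf' with ((hf' | hf') | ⟨e, he, hf'⟩) | ⟨e, he, ⟨h1, h2⟩, hcount⟩
  · exfalso
    subst hf'
    have hzero : ∀ k, ∀ b ∈ signs 0 k, b = false := by
      intro k
      induction k with
      | zero => simp [signs]
      | succ k ih =>
        intro b hb
        rw [signs, List.mem_append, List.mem_map] at hb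
        rcases hb with hb | ⟨c, hc, rfl⟩
        · exact ih b hb
        · simp [ih c hc]
    have htop : N = ⊤ := by
      rw [eq_top_iff]
      intro x _
      by_contra hx
      have hb : decide (∀ v : P0, tb v = tb x → v ∉ N) ∈ signs 0 10 := by
        rw [hsig]; exact List.mem_map.2 ⟨tb x, tb_mem x, rfl⟩
      have := hzero 10 _ hb
      simp only [decide_eq_false_iff_not] at this
      exact this fun v hv => tb_inj hv ▸ hx
    rw [htop, Subgroup.index_top] at hidx
    omega
  · exfalso
    refine (sign_getD (by norm_num) (tb_zc.trans el_eleven.symm) hsig).1 hf' ?_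
    rw [hN, Subgroup.mem_comap, show q zc = 1 from
      (QuotientGroup.eq_one_iff _).2 (mem_center_iff.2 (Or.inr rfl))]
    exact Subgroup.one_mem _
  · exfalso
    have hlt : e.1 < 1024 ∧ e.2 < 1024 :=
      (by decide : ∀ e ∈ sqPairs, e.1 < 1024 ∧ e.2 < 1024) e he
    obtain ⟨y, hy⟩ := tb_surj (el_mem hlt.1)
    have hy2 : tb (y * y) = el e.2 := by rw [tb_mul, hy, hsq e he]
    exact (sign_getD hlt.2 hy2 hsig).1 hf' (Subgroup.mul_self_mem_of_index_two hidx y)
  have hlt : e.1 < 1024 ∧ e.2 < 1024 :=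
    (by decide : ∀ e ∈ genPairs, e.1 < 1024 ∧ e.2 < 1024) e he
  obtain ⟨a, ha⟩ := tb_surj (el_mem hlt.1)
  obtain ⟨b, hb⟩ := tb_surj (el_mem hlt.2)
  have haN : a ∈ N := by
    by_contra hc
    rw [(sign_getD hlt.1 ha hsig).2 hc] at h1
    cases h1
  have hbN : b ∈ N := by
    by_contra hc
    rw [(sign_getD hlt.2 hb hsig).2 hc] at h2
    cases h2
  set C : Subgroup Q := (Subgroup.center M).map M.subtype with hC
  have hcard : Nat.card C = Nat.card (Subgroup.center M) :=
    Nat.card_congr (Subgroup.equivMapOfInjective _ _ M.subtype_injective).symm.toEquiv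
  have key : ∀ x ∈ C.comap q, tb x ∈ ((s24Elems.zip (signs f 10)).filter fun t =>
      !t.2 && ctest t.1 (el e.1) && ctest t.1 (el e.2)).map Prod.fst := by
    intro x hx
    obtain ⟨m, hm, hmx⟩ := Subgroup.mem_map.1 (Subgroup.mem_comap.1 hx)
    have hcm : ∀ y : P0, y ∈ N → Commute (q x) (q y) := by
      intro y hy
      have := Subgroup.mem_center_iff.1 hm ⟨q y, hy⟩
      rw [← hmx]
      exact (congrArg Subtype.val this).symm
    rw [List.mem_map]
    refine ⟨(tb x, false), List.mem_filter.2 ⟨?_, ?_⟩, rfl⟩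
    · rw [hsig, List.zip_map_right]
      have hxN : x ∈ N := by
        rw [hN, Subgroup.mem_comap, ← hmx]; exact m.2
      refine List.mem_map.2 ⟨(tb x, tb x), ?_, ?_⟩
      · obtain ⟨i, hi, hie⟩ := List.mem_iff_getElem.1 (tb_mem x)
        refine List.mem_iff_getElem.2 ⟨i, by simpa using hi, ?_⟩
        simp [hie]
      · simp only [Prod.map_apply, id_eq, Prod.mk.injEq, true_and, decide_eq_false_iff_not]
        exact fun h => h x rfl hxN
    · simp only [Bool.not_false, Bool.true_and, Bool.and_eq_true]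
      rw [← ha, ← hb]
      exact ⟨(ctest_iff x a).2 (hcm a haN), (ctest_iff x b).2 (hcm b hbN)⟩
  have := card_le_list key
  rw [List.length_map, card_comap, hcard] at this
  omega

/-! ### The abelian subgroup of order 64 -/

theorem exists_gE : ∃ g : P0, tb g = gE := tb_surj (el_mem (by norm_num))

/-- The special element. -/
noncomputable def gx : P0 := Classical.choose exists_gE

theorem tb_gx : tb gx = gE := Classical.choose_spec exists_gE

/-- The abelian subgroup. -/
noncomputable def E : Subgroup Q := Subgroup.centralizer {q gx}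

theorem mem_E_iff (x : P0) : q x ∈ E ↔ tb x ∈ eList := by
  rw [E, Subgroup.mem_centralizer_singleton_iff, eList, List.mem_filter, ← tb_gx, ctest_iff]
  exact ⟨fun h => ⟨tb_mem x, h⟩, fun h => h.2⟩

theorem card_E : Nat.card E = 64 := by
  have h := e_check
  simp only [eOK, Bool.and_eq_true, beq_iff_eq] at h
  have h2 : Nat.card (E.comap q) = 128 := by
    have hnd : eList.Nodup := nodup_elems.filter _
    rw [← h.1, ← List.toFinset_card_of_nodup hnd, ← Nat.card_eq_finsetCard]
    refine Nat.card_eq_of_bijective (fun x : E.comap q => (⟨tb (x : P0),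
      List.mem_toFinset.2 ((mem_E_iff _).1 x.2)⟩ : eList.toFinset)) ⟨?_, ?_⟩
    · exact fun x y hxy => Subtype.ext (tb_inj (congrArg Subtype.val hxy))
    · rintro ⟨t, ht⟩
      rw [List.mem_toFinset] at ht
      obtain ⟨x, rfl⟩ := tb_surj (List.mem_of_mem_filter ht)
      exact ⟨⟨x, (mem_E_iff x).2 ht⟩, rfl⟩
  rw [card_comap] at h2
  omega

theorem sq_E {a : Q} (ha : a ∈ E) : a ^ 2 = 1 := by
  obtain ⟨x, rfl⟩ := QuotientGroup.mk'_surjective _ a
  have h := e_check
  simp only [eOK, Bool.and_eq_true, List.all_eq_true, Bool.or_eq_true, beq_iff_eq] at h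
  rw [sq, ← map_mul]
  refine (QuotientGroup.eq_one_iff _).2 (mem_center_iff.2 ?_)
  rcases h.2 _ ((mem_E_iff x).1 ha) with h' | h'
  · exact Or.inl (tb_inj (by rw [tb_mul, h', tb_one]))
  · exact Or.inr (tb_inj (by rw [tb_mul, h', tb_zc]))

theorem comm_E {a b : Q} (ha : a ∈ E) (hb : b ∈ E) : a * b = b * a := by
  have h1 := sq_E ha
  have h2 := sq_E hb
  have h3 := sq_E (E.mul_mem ha hb)
  rw [sq] at h1 h2 h3
  have ha' : a⁻¹ = a := inv_eq_of_mul_eq_one_right h1
  have hb' : b⁻¹ = b := inv_eq_of_mul_eq_one_right h2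
  calc a * b = (a * b)⁻¹ := (inv_eq_of_mul_eq_one_right h3).symm
    _ = b * a := by rw [mul_inv_rev, ha', hb']

theorem eq_E (B : Subgroup Q) (hB : IsMulCommutative B) (hcard : Nat.card B = 64) : B = E := by
  classical
  by_contra hne
  have hnle : ¬ B ≤ E := fun h => hne (Subgroup.eq_of_le_of_card_ge h (by rw [hcard, card_E]))
  have hc := cover_check
  simp only [coverOK, Bool.and_eq_true, List.all_eq_true, Bool.or_eq_true, beq_iff_eq,
    List.any_eq_true] at hc
  have hr : ∀ i < 7, (reps.getD i (0, 0)).1 < 1024 ∧ (reps.getD i (0, 0)).2 < 1024 ∧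
      reps.getD i (0, 0) ∈ reps := by decide
  choose r hr1 using fun i : Fin 7 => tb_surj (el_mem (hr i i.2).1)
  have hcov : ∀ a : Q, a ∈ E ∨ ∃ i : Fin 7, (q (r i))⁻¹ * a ∈ E := by
    intro a
    obtain ⟨x, rfl⟩ := QuotientGroup.mk'_surjective _ a
    rcases hc.2 _ (tb_mem x) with h | ⟨s, hs, h⟩
    · exact Or.inl ((mem_E_iff x).2 (List.mem_filter.2 ⟨tb_mem x, h⟩))
    · obtain ⟨i, hi, hie⟩ : ∃ i < 7, reps.getD i (0, 0) = s :=
        (by decide : ∀ s ∈ reps, ∃ i < 7, reps.getD i (0, 0) = s) s hs
      refine Or.inr ⟨⟨i, hi⟩, ?_⟩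
      obtain ⟨ri, hri⟩ := tb_surj (el_mem (hr i hi).2.1)
      have hinv : ri * r ⟨i, hi⟩ = 1 := tb_inj (by
        rw [tb_mul, hri, hr1, tb_one, hie]; exact hc.1 s hs)
      rw [← map_inv, ← map_mul, inv_eq_of_mul_eq_one_left hinv]
      refine (mem_E_iff _).2 (List.mem_filter.2 ⟨tb_mem _, ?_⟩)
      rw [tb_mul, hri, hie]; exact h
  let lab : Q → Option (Fin 7) := fun a => if a ∈ E then none else
    if h : ∃ i : Fin 7, (q (r i))⁻¹ * a ∈ E then some (Classical.choose h) else none
  have hlab : ∀ a i, lab a = some i → (q (r i))⁻¹ * a ∈ E := by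
    intro a i h
    simp only [lab] at h
    split_ifs at h with h1 h2
    obtain rfl := Option.some.inj h
    exact Classical.choose_spec h2
  have hlab0 : ∀ a, lab a = none → a ∈ E := by
    intro a h
    simp only [lab] at h
    split_ifs at h with h1 h2
    · exact h1
    · exact ((hcov a).resolve_right h2)
  have hsame : ∀ c d, lab d = lab c → c⁻¹ * d ∈ E := by
    intro c d hl
    cases h : lab c with
    | none => exact E.mul_mem (E.inv_mem (hlab0 _ h)) (hlab0 _ (hl.trans h))
    | some i =>
      have := E.mul_mem (E.inv_mem (hlab _ _ h)) (hlab _ _ (hl.trans h))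
      simpa [mul_assoc] using this
  haveI := Fintype.ofFinite B
  set I : Finset (Fin 7) := Finset.univ.filter fun i => ∃ b ∈ B, lab b = some i with hI
  obtain ⟨s, hs, hbits⟩ : ∃ s < 2 ^ 7, ∀ k < 7, s.testBit k = (if h : k < 7 then decide
      ((⟨k, h⟩ : Fin 7) ∈ I) else false) := exists_bits 7 _
  have hsI : ∀ i : Fin 7, (i : ℕ) < 7 → (s.testBit i = true ↔ i ∈ I) := fun i _ => by
    rw [hbits i i.2, dif_pos i.2, decide_eq_true_eq]
  set J := B ⊓ E with hJ
  have hJle : 2 * Nat.card J ≤ (jList s).length := by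
    rw [← card_comap]
    apply card_le_list
    intro x hx
    obtain ⟨hxB, hxE⟩ := Subgroup.mem_inf.1 (Subgroup.mem_comap.1 hx)
    refine List.mem_filter.2 ⟨(mem_E_iff x).1 hxE, ?_⟩
    simp only [List.all_eq_true, List.mem_range, Bool.or_eq_true, Bool.not_eq_eq_eq_not,
      Bool.not_true]
    intro i hi
    by_cases hb : s.testBit i = true
    · right
      have hiI : (⟨i, hi⟩ : Fin 7) ∈ I := (hsI ⟨i, hi⟩ hi).1 hb
      obtain ⟨b, hbB, hbl⟩ := (Finset.mem_filter.1 hiI).2
      have hbe := hlab b _ hbl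
      rw [← hr1 ⟨i, hi⟩, ctest_iff]
      have h1 : Commute (q x) b :=
        congrArg Subtype.val (hB.is_comm.comm ⟨q x, hxB⟩ ⟨b, hbB⟩)
      have h2 : Commute (q x) ((q (r ⟨i, hi⟩))⁻¹ * b) := comm_E hxE hbe
      have h3 : Commute (q x) (b * ((q (r ⟨i, hi⟩))⁻¹ * b)⁻¹) := h1.mul_right h2.inv_right
      simpa using h3
    · left; simpa using hb
  have hIcard : ((List.range 7).filter fun i => s.testBit i).length = I.card := by
    rw [← List.toFinset_card_of_nodup (List.nodup_range.filter _)]
    refine Finset.card_bij' (fun i hi => ⟨i, by simp at hi; exact hi.1⟩) (fun i _ => (i : ℕ))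
      ?_ ?_ (fun _ _ => rfl) (fun _ _ => rfl)
    · intro i hi
      simp only [List.mem_toFinset, List.mem_filter, List.mem_range] at hi
      exact (hsI ⟨i, hi.1⟩ hi.1).1 hi.2
    · intro i hi
      simp only [List.mem_toFinset, List.mem_filter, List.mem_range]
      exact ⟨i.2, (hsI i i.2).2 hi⟩
  have hcount : 64 ≤ (I.card + 1) * Nat.card J := by
    set S : Finset Q := Finset.univ.map ⟨fun b : B => (b : Q), Subtype.val_injective⟩
    have hS : S.card = 64 := by
      rw [Finset.card_map, Finset.card_univ, ← Nat.card_eq_fintype_card, hcard]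
    have himg : S.image lab ⊆ insert none (I.image some) := by
      intro o ho
      obtain ⟨b, hb, rfl⟩ := Finset.mem_image.1 ho
      obtain ⟨⟨b, hbB⟩, -, rfl⟩ := Finset.mem_map.1 hb
      cases hl : lab b with
      | none => simp [hl]
      | some i =>
        simp only [Function.Embedding.coeFn_mk, hl, Finset.mem_insert, reduceCtorEq,
          Finset.mem_image, Option.some.injEq, exists_eq_right, false_or]
        exact Finset.mem_filter.2 ⟨Finset.mem_univ _, b, hbB, hl⟩
    have hfib : ∀ o ∈ S.image lab, (S.filter fun b => lab b = o).card ≤ Nat.card J := by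
      intro o ho
      obtain ⟨b0, hb0, rfl⟩ := Finset.mem_image.1 ho
      rw [← Nat.card_eq_finsetCard]
      have hmem : ∀ b ∈ S, b ∈ B := fun b hb => by
        obtain ⟨c, -, rfl⟩ := Finset.mem_map.1 hb; exact c.2
      refine Nat.card_le_card_of_injective (fun b : (S.filter fun b => lab b = lab b0) =>
        (⟨b0⁻¹ * (b : Q), ?_⟩ : J)) fun b c hbc => ?_
      · obtain ⟨hb, hl⟩ := Finset.mem_filter.1 b.2
        exact ⟨B.mul_mem (B.inv_mem (hmem _ hb0)) (hmem _ hb), hsame _ _ hl⟩
      · exact Subtype.ext (mul_left_cancel (congrArg Subtype.val hbc))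
    calc 64 = S.card := hS.symm
      _ ≤ Nat.card J * (S.image lab).card := Finset.card_le_mul_card_image S _ hfib
      _ ≤ Nat.card J * (I.card + 1) := Nat.mul_le_mul_left _
          ((Finset.card_le_card himg).trans ((Finset.card_insert_le _ _).trans
            (by rw [Finset.card_image_of_injective _ (Option.some_injective _)])))
      _ = (I.card + 1) * Nat.card J := mul_comm _ _
  have hs0 : s ≠ 0 := by
    rintro rfl
    obtain ⟨b, hbB, hbE⟩ := SetLike.not_le_iff_exists.1 hnle
    cases h : lab b with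
    | none => exact hbE (hlab0 b h)
    | some i =>
      have := (hsI i i.2).2 (Finset.mem_filter.2 ⟨Finset.mem_univ _, b, hbB, h⟩)
      simp at this
  have hsub := subsets_check
  simp only [subsetsOK, List.all_eq_true, List.mem_range, Bool.or_eq_true, beq_iff_eq,
    decide_eq_true_eq] at hsub
  have h9 := (hsub s (by simpa using hs)).resolve_left hs0
  rw [hIcard] at h9
  have h10 := Nat.mul_le_mul_left (I.card + 1) hJle
  have h11 : (I.card + 1) * (2 * Nat.card J) = 2 * ((I.card + 1) * Nat.card J) := by ring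
  omega

/-- **The structure of the quotient.** -/
theorem structureQ : (∀ M : Subgroup Q, IsCoatom M → Nat.card (Subgroup.center M) ≤ 8) ∧
    (∃ A : Subgroup Q, IsElementaryAbelian 2 A ∧ Nat.card A = 64) ∧
    ∀ A B : Subgroup Q, IsMulCommutative A → Nat.card A = 64 → IsMulCommutative B →
      Nat.card B = 64 → A = B :=
  ⟨fun _ => card_center_maximal,
    ⟨E, ⟨⟨⟨fun a b => Subtype.ext (comm_E a.2 b.2)⟩⟩, fun _ => sq_E⟩, card_E⟩,
    fun A B hA hA' hB hB' => (eq_E A hA hA').trans (eq_E B hB hB').symm⟩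

/-- Transport along an isomorphism of groups. -/
theorem structure_of_equiv {G H : Type*} [Group G] [Group H] (e : G ≃* H)
    (h : (∀ M : Subgroup H, IsCoatom M → Nat.card (Subgroup.center M) ≤ 8) ∧
      (∃ A : Subgroup H, IsElementaryAbelian 2 A ∧ Nat.card A = 64) ∧
      ∀ A B : Subgroup H, IsMulCommutative A → Nat.card A = 64 → IsMulCommutative B →
        Nat.card B = 64 → A = B) :
    (∀ M : Subgroup G, IsCoatom M → Nat.card (Subgroup.center M) ≤ 8) ∧
      (∃ A : Subgroup G, IsElementaryAbelian 2 A ∧ Nat.card A = 64) ∧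
      ∀ A B : Subgroup G, IsMulCommutative A → Nat.card A = 64 → IsMulCommutative B →
        Nat.card B = 64 → A = B := by
  obtain ⟨h1, ⟨A, hA, hAc⟩, h3⟩ := h
  refine ⟨fun M hM => ?_, ⟨A.comap e.toMonoidHom, ⟨?_, ?_⟩, ?_⟩, ?_⟩
  · have := h1 (e.mapSubgroup M) ((e.mapSubgroup.isCoatom_iff M).2 hM)
    rwa [Nat.card_congr (Subgroup.centerCongr (e.subgroupMap M)).toEquiv]
  · refine ⟨⟨fun a b => Subtype.ext (e.injective ?_)⟩⟩
    simp only [Subgroup.coe_mul, map_mul]
    exact congrArg Subtype.val (hA.1.is_comm.comm ⟨e a, a.2⟩ ⟨e b, b.2⟩)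
  · intro a ha
    apply e.injective
    rw [map_pow, map_one]
    exact hA.2 _ ha
  · rw [← hAc]
    exact Nat.card_congr ((e.toEquiv.subtypeEquiv fun _ => Iff.rfl))
  · intro B C hB hBc hC hCc
    have key : ∀ D : Subgroup G, IsMulCommutative D →
        IsMulCommutative (D.map e.toMonoidHom) := fun D hD => by
      refine ⟨⟨?_⟩⟩
      rintro ⟨_, a, ha, rfl⟩ ⟨_, b, hb, rfl⟩
      apply Subtype.ext
      show e a * e b = e b * e a
      rw [← map_mul, ← map_mul]
      exact congrArg e (congrArg Subtype.val (hD.is_comm.comm ⟨a, ha⟩ ⟨b, hb⟩))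
    apply Subgroup.map_injective (f := e.toMonoidHom) e.injective
    refine h3 _ _ (key B hB) ?_ (key C hC) ?_
    · rw [Subgroup.card_map_of_injective e.injective, hBc]
    · rw [Subgroup.card_map_of_injective e.injective, hCc]

end Cfsg.Agent.M24Sylow
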